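import Cfsg.Agent.H242.RC.RatFam
import Cfsg.Agent.H527.RC.Stmts

/-!
# S4191 (team RC), large orbits of `p`-groups, `p` odd (helper242)

* `rat_three : Rat 3 1 3`, `rat_five : Rat 5 0 1`, `rat_ge : Rat p 1 7` (`p ≥ 7`).
-/

set_option autoImplicit false
set_option linter.unusedSectionVars false

namespace Cfsg.Agent.H242.RC

open Finset

universe u

section Family

variable {P V : Type*} [Group P] [AddCommGroup V] [DistribMulAction P V]

/-- orthogonal idempotents: `e i (∑ w) = w i` -/
theorem e_sum {ι : Type*} [Fintype ι] [DecidableEq ι] {e : ι → AddMonoid.End V}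
    (hmul : ∀ i j, e i * e j = if i = j then e i else 0) {w : ι → V} (hw : ∀ i, e i (w i) = w i) (i : ι) :
    e i (∑ j, w j) = w i := by
  rw [map_sum, Finset.sum_eq_single i]
  · exact hw i
  · intro j _ hj
    have h1 := congrArg (fun a : AddMonoid.End V => a (w j)) (hmul i j)
    rw [if_neg hj.symm] at h1
    rw [← hw j]
    exact h1
  · intro h
    exact absurd (Finset.mem_univ _) h

theorem sum_e {ι : Type*} [Fintype ι] {e : ι → AddMonoid.End V} (hs : ∑ i, e i = 1) (v : V) : ∑ i, e i v = v := by
  rw [← end_sum, hs]
  rfl

theorem e_idem {ι : Type*} [DecidableEq ι] {e : ι → AddMonoid.End V}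
    (hmul : ∀ i j, e i * e j = if i = j then e i else 0) (i : ι) (v : V) : e i (e i v) = e i v := by
  have h1 := congrArg (fun a : AddMonoid.End V => a v) (hmul i i)
  rw [if_pos rfl] at h1
  exact h1

theorem e_orth {ι : Type*} [DecidableEq ι] {e : ι → AddMonoid.End V}
    (hmul : ∀ i j, e i * e j = if i = j then e i else 0) {i j : ι} (hij : i ≠ j) (v : V) : e i (e j v) = 0 := by
  have h1 := congrArg (fun a : AddMonoid.End V => a v) (hmul i j)
  rw [if_neg hij] at h1
  exact h1

/-- the intersection of the kernels is trivial -/
theorem iInf_krn {ι : Type*} [Fintype ι] {e : ι → AddMonoid.End V} (hs : ∑ i, e i = 1)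
    (hf : ∀ g : P, (∀ v : V, g • v = v) → g = 1) : (⨅ i ∈ (Finset.univ : Finset ι), (krn (e i) : Subgroup P)) = ⊥ := by
  rw [eq_bot_iff]
  intro g hg
  rw [Subgroup.mem_bot]
  apply hf
  intro v
  rw [← sum_e hs v, Finset.smul_sum]
  refine Finset.sum_congr rfl fun i hi => ?_
  have h1 : g ∈ (krn (e i) : Subgroup P) := by
    rw [Subgroup.mem_iInf] at hg
    have := hg i
    rw [Subgroup.mem_iInf] at this
    exact this hi
  exact h1 v

/-- the images are proper -/
theorem card_range_lt [Finite V] {e : AddMonoid.End V} (he : e * e = e) (h1 : e ≠ 1) :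
    Nat.card ↥(AddMonoidHom.range (e : V →+ V)) < Nat.card V := by
  have h2 : AddMonoidHom.range (e : V →+ V) ≠ ⊤ := by
    intro h
    apply h1
    ext v
    have hv : v ∈ AddMonoidHom.range (e : V →+ V) := by rw [h]; trivial
    obtain ⟨w, rfl⟩ := hv
    exact congrArg (fun a : AddMonoid.End V => a w) he
  have h3 := (AddMonoidHom.range (e : V →+ V)).card_le_card_addGroup
  rcases h3.lt_or_eq with h | h
  · exact h
  · exact absurd (AddSubgroup.eq_top_of_card_eq _ h) h2

end Family

section Cl1

variable {p : ℕ} [hp : Fact p.Prime]

theorem coprime_sub {V : Type*} [AddCommGroup V] (hV : ¬ p ∣ Nat.card V) (X : AddSubgroup V) : ¬ p ∣ Nat.card X :=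
  fun h => hV (h.trans (AddSubgroup.card_addSubgroup_dvd_card X))

/-- the induction step, faithful action -/
theorem cl1_step (hp2 : p ≠ 2) {P V : Type u} [Group P] [Finite P] [AddCommGroup V] [Finite V] [DistribMulAction P V]
    (hP : IsPGroup p P) (hV : ¬ p ∣ Nat.card V) (hf : ∀ g : P, (∀ v : V, g • v = v) → g = 1)
    (IH : ∀ (P' V' : Type u) [Group P'] [Finite P'] [AddCommGroup V'] [Finite V'] [DistribMulAction P' V'],
      Nat.card V' < Nat.card V → IsPGroup p P' → ¬ p ∣ Nat.card V' → Cl1 p P' V') : Cl1 p P V := by
  classical
  have hp1 := hp.out.one_lt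
  have hk : kr P V = ⊥ := by
    rw [eq_bot_iff]
    intro g hg
    exact Subgroup.mem_bot.2 (hf g hg)
  rcases subsingleton_or_nontrivial P with hs | hnt
  · left
    intro g v
    rw [Subsingleton.elim g 1, one_smul]
  have hVnt : ∃ v : V, v ≠ 0 := by
    by_contra hcon
    push Not at hcon
    obtain ⟨g, hg⟩ := exists_ne (1 : P)
    exact hg (hf g fun v => by rw [hcon v, smul_zero])
  right
  rw [hk, Subgroup.index_bot]
  have hcardP : Nat.card P = p ^ (Nat.card P).factorization p := by
    have := relIndex_pow hP (⊥ : Subgroup P) ⊤
    rwa [Subgroup.relIndex_top_right, Subgroup.index_bot] at this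
  have hcard : 1 ≤ (Nat.card P).factorization p := by
    by_contra hlt
    have h0 : (Nat.card P).factorization p = 0 := by omega
    rw [h0, pow_zero] at hcardP
    exact (Finite.one_lt_card (α := P)).ne' hcardP
  have hint : ∀ (H : Subgroup P) (e : AddMonoid.End V), e * e = e → e ≠ 1 → (∀ g ∈ H, rh g * e = e * rh g) →
      Int1 p H e := by
    intro H e he he1 hce
    exact int1_of H e he hce fun _ => IH _ _ (card_range_lt he he1) (hP.to_subgroup H) (coprime_sub hV _)
  rcases struct hp2 hP hV hf with h | ⟨e, he, he0, he1, hce⟩ | ⟨c, e, hcadd, ⟨t, ht⟩, hsum, hmul, hequiv⟩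
  · -- fixed point free
    obtain ⟨v, hv⟩ := hVnt
    refine ⟨v, ?_⟩
    have h1 : MulAction.stabilizer P v = ⊥ := by
      rw [eq_bot_iff]
      intro g hg
      exact Subgroup.mem_bot.2 (h g v hv hg)
    rw [h1, Subgroup.index_bot]
    obtain ⟨m, rfl⟩ : ∃ m, p = m + 1 := ⟨p - 1, by omega⟩
    rw [Nat.add_sub_cancel]
    nlinarith
  · -- reducible
    let f : Fin 2 → AddMonoid.End V := ![e, 1 - e]
    have hf0 : f 0 = e := rfl
    have hf1 : f 1 = 1 - e := rfl
    have hsum : ∑ i, f i = 1 := by rw [Fin.sum_univ_two, hf0, hf1]; abel
    have hmul : ∀ i j, f i * f j = if i = j then f i else 0 := by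
      have h1 : e * (1 - e) = 0 := by rw [mul_sub, mul_one, he, sub_self]
      have h2 : (1 - e) * e = 0 := by rw [sub_mul, one_mul, he, sub_self]
      have h3 : (1 - e) * (1 - e) = 1 - e := by rw [mul_sub, mul_one, h2, sub_zero]
      intro i j
      fin_cases i <;> fin_cases j
      · show e * e = _
        rw [if_pos rfl]; exact he
      · show e * (1 - e) = _
        rw [if_neg (by decide)]; exact h1
      · show (1 - e) * e = _
        rw [if_neg (by decide)]; exact h2
      · show (1 - e) * (1 - e) = _
        rw [if_pos rfl]; exact h3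
    have hcf : ∀ (g : P) (i : Fin 2), rh g * f i = f i * rh g := by
      intro g i
      fin_cases i
      · exact hce g
      · show rh g * (1 - e) = (1 - e) * rh g
        rw [mul_sub, sub_mul, hce, mul_one, one_mul]
    have hne : ∀ i, f i ≠ 1 := by
      intro i
      fin_cases i
      · exact he1
      · intro h
        apply he0
        have h1 : 1 - e = 1 := h
        rw [sub_eq_self] at h1
        exact h1
    obtain ⟨w, r, hw, hr, h1⟩ := fam hP (⊤ : Subgroup P) f
      (fun H i _ => hint H (f i) (by rw [hmul, if_pos rfl]) (hne i) fun g _ => hcf g i) Finset.univ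
    rw [iInf_krn hsum hf, Subgroup.relIndex_top_right, Subgroup.relIndex_top_right, Subgroup.index_bot] at h1
    refine ⟨∑ i, w i, ?_⟩
    have h2 : MulAction.stabilizer P (∑ i, w i) = ⨅ i ∈ (Finset.univ : Finset (Fin 2)), MulAction.stabilizer P (w i) := by
      ext g
      rw [Subgroup.mem_iInf]
      constructor
      · intro hg i
        rw [Subgroup.mem_iInf]
        intro _
        rw [MulAction.mem_stabilizer_iff] at hg ⊢
        have h3 : f i (g • ∑ j, w j) = g • f i (∑ j, w j) :=
          (congrArg (fun a : AddMonoid.End V => a (∑ j, w j)) (hcf g i)).symm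
        rw [hg, e_sum hmul hw] at h3
        exact h3.symm
      · intro hg
        rw [MulAction.mem_stabilizer_iff, Finset.smul_sum]
        refine Finset.sum_congr rfl fun i hi => ?_
        have := hg i
        rw [Subgroup.mem_iInf] at this
        exact this hi
    rw [h2]
    rcases r.eq_empty_or_nonempty with hr0 | hr0
    · exfalso
      have h3 : (⨅ i ∈ (Finset.univ : Finset (Fin 2)), MulAction.stabilizer P (w i)) = ⊤ := by
        rw [eq_top_iff]
        intro g _
        rw [Subgroup.mem_iInf]
        intro i
        rw [Subgroup.mem_iInf]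
        intro _
        have h4 : w i = 0 := by
          by_contra hne0
          have := (hr i).2 ⟨Finset.mem_univ _, hne0⟩
          rw [hr0] at this
          exact absurd this (Finset.notMem_empty _)
        rw [h4, MulAction.mem_stabilizer_iff, smul_zero]
      rw [h3, Subgroup.index_top, Nat.factorization_one, Finsupp.zero_apply, mul_zero] at h1
      have h5 : (p - 1) * (Nat.card P).factorization p = 0 := by omega
      rcases Nat.mul_eq_zero.1 h5 with h6 | h6 <;> omega
    · have := hr0.card_pos
      omega
  · -- induced
    have hc1 : c 1 = 0 := by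
      have h1 := hcadd 1 1
      rw [mul_one] at h1
      exact left_eq_add.1 h1
    let P₀ : Subgroup P :=
      { carrier := {g | c g = 0}
        one_mem' := hc1
        mul_mem' := fun {a b} ha hb => by
          show c (a * b) = 0
          rw [hcadd, show c a = 0 from ha, show c b = 0 from hb, add_zero]
        inv_mem' := fun {a} ha => by
          show c a⁻¹ = 0
          have h1 := hcadd a a⁻¹
          rw [mul_inv_cancel, hc1, show c a = 0 from ha, zero_add] at h1
          exact h1.symm }
    have hP₀ : ∀ g, g ∈ P₀ ↔ c g = 0 := fun _ => Iff.rfl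
    have hidx : P₀.index.factorization p = 1 := by
      let ch : P →* Multiplicative (ZMod p) :=
        { toFun := fun g => Multiplicative.ofAdd (c g)
          map_one' := by rw [hc1]; rfl
          map_mul' := fun g h => by rw [hcadd]; rfl }
      have h1 : ch.ker = P₀ := by
        ext g
        rw [MonoidHom.mem_ker, hP₀]
        exact Multiplicative.ofAdd.injective.eq_iff (a := c g) (b := 0)
      have h2 : Function.Surjective ch := by
        intro x
        have hpow : ∀ n : ℕ, c (t ^ n) = n := by
          intro n
          induction n with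
          | zero => rw [pow_zero, hc1, Nat.cast_zero]
          | succ n ih => rw [pow_succ, hcadd, ih, ht, Nat.cast_succ]
        refine ⟨t ^ (Multiplicative.toAdd x).val, ?_⟩
        show Multiplicative.ofAdd (c (t ^ (Multiplicative.toAdd x).val)) = x
        rw [hpow, ZMod.natCast_zmod_val]
        rfl
      rw [← h1, Subgroup.index_ker, MonoidHom.range_eq_top.2 h2, Subgroup.card_top]
      have h3 : Nat.card (Multiplicative (ZMod p)) = p := by
        rw [Nat.card_congr Multiplicative.toAdd, Nat.card_zmod]
      rw [h3, hp.out.factorization_self]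
    -- transport
    have hmove : ∀ (g : P) (i : ZMod p) (v : V), g • e i v = e (i + c g) (g • v) := fun g i v =>
      congrArg (fun a : AddMonoid.End V => a v) (hequiv g i)
    have hne0 : ∀ i, ∃ v, e i v ≠ 0 := by
      obtain ⟨v, hv⟩ := hVnt
      obtain ⟨j, hj⟩ : ∃ j, e j v ≠ 0 := by
        by_contra hcon
        push Not at hcon
        apply hv
        rw [← sum_e hsum v, Finset.sum_congr rfl fun i _ => hcon i, Finset.sum_const_zero]
      intro i
      have hpow : ∀ n : ℕ, c (t ^ n) = n := by
        intro n
        induction n with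
        | zero => rw [pow_zero, hc1, Nat.cast_zero]
        | succ n ih => rw [pow_succ, hcadd, ih, ht, Nat.cast_succ]
      refine ⟨t ^ (i - j).val • v, ?_⟩
      have h1 := hmove (t ^ (i - j).val) j v
      rw [hpow, ZMod.natCast_zmod_val, add_sub_cancel] at h1
      rw [← h1]
      intro h2
      rw [smul_eq_zero_iff_eq] at h2
      exact hj h2
    have hne1 : ∀ i, e i ≠ 1 := by
      intro i h
      obtain ⟨v, hv⟩ := hne0 (i + 1)
      apply hv
      have h1 := e_orth hmul (i := i) (j := i + 1) (by
        intro h2
        exact one_ne_zero (left_eq_add.1 h2)) v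
      rw [h] at h1
      exact h1
    have hce : ∀ g ∈ P₀, ∀ i, rh g * e i = e i * rh g := by
      intro g hg i
      rw [hequiv, (hP₀ g).1 hg, add_zero]
    obtain ⟨w, r, hw, hr, h1⟩ := fam hP P₀ e
      (fun H i hH => hint H (e i) (by rw [hmul, if_pos rfl]) (hne1 i) fun g hg => hce g (hH hg) i) Finset.univ
    rw [iInf_krn hsum hf] at h1
    -- the order of `P₀`
    have hcard0 : (Nat.card P).factorization p = ((⊥ : Subgroup P).relIndex P₀).factorization p + 1 := by
      have h3 : (⊥ : Subgroup P).relIndex P₀ * P₀.index = (⊥ : Subgroup P).index := Subgroup.relIndex_mul_index bot_le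
      rw [← Subgroup.index_bot (G := P), ← h3, Nat.factorization_mul (relIndex_ne_zero _ _)
        Subgroup.index_ne_zero_of_finite, Finsupp.add_apply, hidx]
    set v := ∑ i, w i with hvdef
    have hev : ∀ i, e i v = w i := e_sum hmul hw
    have hstab : (MulAction.stabilizer P v).relIndex P₀ =
        (⨅ i ∈ (Finset.univ : Finset (ZMod p)), MulAction.stabilizer P (w i)).relIndex P₀ := by
      rw [← Subgroup.inf_relIndex_right, ← Subgroup.inf_relIndex_right (⨅ i ∈ _, _)]
      congr 1
      ext g
      rw [Subgroup.mem_inf, Subgroup.mem_inf, Subgroup.mem_iInf]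
      constructor
      · rintro ⟨hg, hg0⟩
        refine ⟨fun i => ?_, hg0⟩
        rw [Subgroup.mem_iInf]
        intro _
        rw [MulAction.mem_stabilizer_iff] at hg ⊢
        have h3 := hmove g i v
        rw [(hP₀ g).1 hg0, add_zero, hg, hev] at h3
        exact h3
      · rintro ⟨hg, hg0⟩
        refine ⟨?_, hg0⟩
        rw [MulAction.mem_stabilizer_iff, hvdef, Finset.smul_sum]
        refine Finset.sum_congr rfl fun i hi => ?_
        have := hg i
        rw [Subgroup.mem_iInf] at this
        exact this hi
    rw [← hstab] at h1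
    obtain ⟨m, hm⟩ : ∃ m, p = m + 1 := ⟨p - 1, by omega⟩
    by_cases hall : ∀ i, w i ≠ 0
    · -- all components nonzero
      refine ⟨v, ?_⟩
      have hrc : r.card = p := by
        have : r = Finset.univ := by
          ext i
          rw [hr]
          simp [hall i]
        rw [this, Finset.card_univ, ZMod.card]
      have h3 : ((MulAction.stabilizer P v).relIndex P₀).factorization p ≤
          (MulAction.stabilizer P v).index.factorization p := by
        have := nu_right hP (MulAction.stabilizer P v) (le_top : P₀ ≤ ⊤)
        rwa [Subgroup.relIndex_top_right] at this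
      have h4 := Nat.mul_le_mul_left p h3
      rw [hrc] at h1
      rw [hcard0, mul_add]
      omega
    · push Not at hall
      obtain ⟨i₀, hi₀⟩ := hall
      rcases r.eq_empty_or_nonempty with hr0 | hr0
      · -- all components are zero
        have hw0 : ∀ i, w i = 0 := by
          intro i
          by_contra hne0
          have := (hr i).2 ⟨Finset.mem_univ _, hne0⟩
          rw [hr0] at this
          exact absurd this (Finset.notMem_empty _)
        have hv0 : v = 0 := by rw [hvdef, Finset.sum_congr rfl fun i _ => hw0 i, Finset.sum_const_zero]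
        have hst0 : MulAction.stabilizer P v = ⊤ := by
          rw [hv0, eq_top_iff]
          intro g _
          rw [MulAction.mem_stabilizer_iff, smul_zero]
        rw [hst0, Subgroup.relIndex_top_left, Nat.factorization_one, Finsupp.zero_apply, mul_zero] at h1
        have h5 : (p - 1) * ((⊥ : Subgroup P).relIndex P₀).factorization p = 0 := by omega
        have h6 : ((⊥ : Subgroup P).relIndex P₀).factorization p = 0 := by
          rcases Nat.mul_eq_zero.1 h5 with h6 | h6
          · omega
          · exact h6
        have h7 : (⊥ : Subgroup P).relIndex P₀ = 1 := by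
          rw [relIndex_pow hP, h6, pow_zero]
        have hP₀bot : P₀ = ⊥ := by
          rw [Subgroup.relIndex_bot_left] at h7
          exact Subgroup.card_eq_one.1 h7
        obtain ⟨y, hy⟩ := hne0 0
        refine ⟨e 0 y, ?_⟩
        have h8 : MulAction.stabilizer P (e 0 y) = ⊥ := by
          rw [eq_bot_iff, ← hP₀bot]
          intro g hg
          rw [MulAction.mem_stabilizer_iff] at hg
          rw [hP₀]
          by_contra hne
          have h9 := hmove g 0 (e 0 y)
          rw [e_idem hmul, hg, zero_add, e_orth hmul hne] at h9
          exact hy h9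
        rw [h8, Subgroup.index_bot, hcard0, h6, hm]
        simp
      · -- a zero component and a nonzero component
        refine ⟨v, ?_⟩
        have hle : MulAction.stabilizer P v ≤ P₀ := by
          intro g hg
          rw [MulAction.mem_stabilizer_iff] at hg
          rw [hP₀]
          by_contra hne
          obtain ⟨j, hj⟩ := hr0
          have hj0 := ((hr j).1 hj).2
          have h3 : ∀ i, g • w i = w (i + c g) := by
            intro i
            have h4 := hmove g i v
            rw [hg, hev, hev] at h4
            exact h4
          have h4 : ∀ n : ℕ, w (i₀ + n * c g) = 0 := by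
            intro n
            induction n with
            | zero => rw [Nat.cast_zero, zero_mul, add_zero, hi₀]
            | succ n ih =>
              have h5 : i₀ + ((n + 1 : ℕ) : ZMod p) * c g = i₀ + n * c g + c g := by push_cast; ring
              rw [h5, ← h3, ih, smul_zero]
          apply hj0
          have h5 := h4 ((j - i₀) * (c g)⁻¹).val
          rw [ZMod.natCast_zmod_val, mul_assoc, inv_mul_cancel₀ hne, mul_one, add_sub_cancel] at h5
          exact h5
        have h3 : (MulAction.stabilizer P v).index.factorization p =
            ((MulAction.stabilizer P v).relIndex P₀).factorization p + 1 := by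
          rw [← Subgroup.relIndex_mul_index hle, Nat.factorization_mul (relIndex_ne_zero _ _)
            Subgroup.index_ne_zero_of_finite, Finsupp.add_apply, hidx]
        rw [h3, hcard0, mul_add, mul_add]
        have := hr0.card_pos
        omega

/-- **Claim 1** -/
theorem cl1_main (hp2 : p ≠ 2) (n : ℕ) : ∀ (P V : Type u) [Group P] [Finite P] [AddCommGroup V] [Finite V]
    [DistribMulAction P V], Nat.card V ≤ n → IsPGroup p P → ¬ p ∣ Nat.card V → Cl1 p P V := by
  induction n with
  | zero =>
    intro P V _ _ _ _ _ h
    have := Nat.card_pos (α := V)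
    omega
  | succ n ih =>
    intro P V _ _ _ _ _ hn hP hV
    apply cl1_of_im
    refine cl1_step hp2 (isPGroup_im hP) hV faithful_im ?_
    intro P' V' _ _ _ _ _ h hP' hV'
    exact ih P' V' (by omega) hP' hV'

end Cl1

end Cfsg.Agent.H242.RC
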