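import Cfsg.Agent.H242.RC.RatStr

/-!
# S4191 (team RC), large orbits of `p`-groups: families (helper242)

* `Cl1`, `Cl2` : the two claims (for possibly non faithful actions), `cl1_of_im`, `cl2_of_im`;
* `int1` : `Cl1` for the image of an idempotent, in terms of the ambient group;
* `fam` : the family lemma.
-/

set_option autoImplicit false
set_option linter.unusedSectionVars false

namespace Cfsg.Agent.H242.RC

open Finset

universe u

section

variable {P V : Type*} [Group P] [AddCommGroup V] [DistribMulAction P V]

variable (P V) in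
/-- the kernel -/
def kr : Subgroup P where
  carrier := {g | ∀ v : V, g • v = v}
  one_mem' := fun v => one_smul _ v
  mul_mem' := fun {a b} ha hb v => by rw [mul_smul, hb, ha]
  inv_mem' := fun {a} ha v => by rw [inv_smul_eq_iff, ha]

theorem mem_kr {g : P} : g ∈ kr P V ↔ ∀ v : V, g • v = v := Iff.rfl

/-- the kernel on the image of `e` -/
def krn (e : AddMonoid.End V) : Subgroup P where
  carrier := {g | ∀ v : V, g • e v = e v}
  one_mem' := fun v => one_smul _ _
  mul_mem' := fun {a b} ha hb v => by rw [mul_smul, hb, ha]
  inv_mem' := fun {a} ha v => by rw [inv_smul_eq_iff, ha]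

theorem mem_krn {e : AddMonoid.End V} {g : P} : g ∈ krn e ↔ ∀ v : V, g • e v = e v := Iff.rfl

/-- restriction of an action to a subgroup -/
abbrev subAct (X : AddSubgroup V) (hX : ∀ g : P, ∀ x ∈ X, g • x ∈ X) : DistribMulAction P X where
  smul g x := ⟨g • x.1, hX g x.1 x.2⟩
  one_smul _ := Subtype.ext (one_smul _ _)
  mul_smul _ _ _ := Subtype.ext (mul_smul _ _ _)
  smul_zero _ := Subtype.ext (smul_zero _)
  smul_add _ _ _ := Subtype.ext (smul_add _ _ _)

/-- Claim 1 -/
def Cl1 (p : ℕ) (P V : Type*) [Group P] [AddCommGroup V] [DistribMulAction P V] : Prop :=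
  (∀ (g : P) (v : V), g • v = v) ∨
    ∃ v : V, (p - 1) * (kr P V).index.factorization p + 1 ≤ p * (MulAction.stabilizer P v).index.factorization p

/-- Claim 2 -/
def Cl2 (P V : Type*) [Group P] [AddCommGroup V] [DistribMulAction P V] : Prop :=
  Nontrivial V → ∃ v v' : V, (∀ g : P, g • v = v → ∀ w : V, g • w = w) ∧
    (∀ g : P, g • v' = v' → ∀ w : V, g • w = w) ∧ ∀ g : P, g • v ≠ v'

variable (P V) in
/-- the image in the symmetric group -/
abbrev Im : Subgroup (Equiv.Perm V) := (MulAction.toPermHom P V).range

variable (P V) in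
/-- the projection -/
def toIm : P →* ↥(Im P V) := (MulAction.toPermHom P V).rangeRestrict

theorem toIm_surjective : Function.Surjective (toIm P V) := MonoidHom.rangeRestrict_surjective _

/-- the action of the image -/
instance imAct : DistribMulAction ↥(Im P V) V where
  smul_zero g := by
    obtain ⟨g, rfl⟩ := toIm_surjective g
    exact smul_zero g
  smul_add g := by
    obtain ⟨g, rfl⟩ := toIm_surjective g
    exact smul_add g

theorem toIm_smul (g : P) (v : V) : toIm P V g • v = g • v := rfl

theorem cl1_of_im {p : ℕ} (h : Cl1 p ↥(Im P V) V) : Cl1 p P V := by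
  rcases h with h | ⟨v, hv⟩
  · exact Or.inl fun g v => h (toIm P V g) v
  · right
    refine ⟨v, ?_⟩
    have h1 : kr P V = (kr ↥(Im P V) V).comap (toIm P V) := rfl
    have h2 : MulAction.stabilizer P v = (MulAction.stabilizer ↥(Im P V) v).comap (toIm P V) := rfl
    rw [h1, h2, Subgroup.index_comap_of_surjective _ toIm_surjective, Subgroup.index_comap_of_surjective _ toIm_surjective]
    exact hv

theorem cl2_of_im (h : Cl2 ↥(Im P V) V) : Cl2 P V := by
  intro hV
  obtain ⟨v, v', h1, h2, h3⟩ := h hV
  exact ⟨v, v', fun g => h1 (toIm P V g), fun g => h2 (toIm P V g), fun g => h3 (toIm P V g)⟩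

theorem faithful_im (g : ↥(Im P V)) (h : ∀ v : V, g • v = v) : g = 1 := by
  apply Subtype.ext
  apply Equiv.ext
  exact h

theorem isPGroup_im {p : ℕ} (hP : IsPGroup p P) : IsPGroup p ↥(Im P V) := hP.of_surjective _ toIm_surjective

/-! ### valuations of indices -/

variable {p : ℕ} [hp : Fact p.Prime]

theorem relIndex_pow [Finite P] (hP : IsPGroup p P) (T K : Subgroup P) :
    T.relIndex K = p ^ (T.relIndex K).factorization p := by
  obtain ⟨n, hn⟩ := (hP.to_subgroup K).index (T.subgroupOf K)
  have h1 : T.relIndex K = p ^ n := hn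
  rw [h1, hp.out.factorization_pow, Finsupp.single_eq_same]

theorem nu_mono [Finite P] (hP : IsPGroup p P) {T K T' K' : Subgroup P} (h : T.relIndex K ≤ T'.relIndex K') :
    (T.relIndex K).factorization p ≤ (T'.relIndex K').factorization p := by
  rw [relIndex_pow hP T K, relIndex_pow hP T' K'] at h
  exact (Nat.pow_le_pow_iff_right hp.out.one_lt).1 h

theorem relIndex_ne_zero [Finite P] (T K : Subgroup P) : T.relIndex K ≠ 0 := Subgroup.index_ne_zero_of_finite

theorem nu_inf [Finite P] (A B H : Subgroup P) :
    ((A ⊓ B).relIndex H).factorization p = (A.relIndex (B ⊓ H)).factorization p + (B.relIndex H).factorization p := by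
  rw [← Subgroup.relIndex_inf_mul_relIndex, Nat.factorization_mul (relIndex_ne_zero _ _) (relIndex_ne_zero _ _)]
  rfl

theorem nu_right [Finite P] (hP : IsPGroup p P) (T : Subgroup P) {K K' : Subgroup P} (h : K ≤ K') :
    (T.relIndex K).factorization p ≤ (T.relIndex K').factorization p :=
  nu_mono hP (Subgroup.relIndex_le_of_le_right h (relIndex_ne_zero _ _))

/-! ### the family lemma -/

/-- `Cl1` on the image of `e`, in terms of the ambient group -/
def Int1 (p : ℕ) {P V : Type*} [Group P] [AddCommGroup V] [DistribMulAction P V] (H : Subgroup P)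
    (e : AddMonoid.End V) : Prop :=
  (∀ g ∈ H, ∀ v : V, g • e v = e v) ∨ ∃ w : V, e w = w ∧
    (p - 1) * ((krn e : Subgroup P).relIndex H).factorization p + 1 ≤
      p * ((MulAction.stabilizer P w).relIndex H).factorization p

theorem fam [Finite P] (hP : IsPGroup p P) {ι : Type*} [DecidableEq ι] (H₀ : Subgroup P) (e : ι → AddMonoid.End V)
    (hint : ∀ (H : Subgroup P) (i : ι), H ≤ H₀ → Int1 p H (e i)) (s : Finset ι) :
    ∃ (w : ι → V) (r : Finset ι), (∀ i, e i (w i) = w i) ∧ (∀ i, i ∈ r ↔ i ∈ s ∧ w i ≠ 0) ∧
      (p - 1) * ((⨅ i ∈ s, (krn (e i) : Subgroup P)).relIndex H₀).factorization p + r.card ≤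
        p * ((⨅ i ∈ s, MulAction.stabilizer P (w i)).relIndex H₀).factorization p := by
  classical
  have hp0 := hp.out.pos
  induction s using Finset.induction_on with
  | empty =>
    refine ⟨fun _ => 0, ∅, fun i => map_zero _, fun i => by simp, ?_⟩
    simp
  | insert j s hj ih =>
    obtain ⟨w, r, hw, hr, h1⟩ := ih
    set A : Subgroup P := ⨅ i ∈ s, (krn (e i) : Subgroup P) with hA
    set S : Subgroup P := ⨅ i ∈ s, MulAction.stabilizer P (w i) with hS
    have hAS : A ≤ S := by
      rw [hA, hS]
      refine iInf₂_mono fun i hi g hg => ?_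
      rw [MulAction.mem_stabilizer_iff, ← hw i]
      exact hg _
    rcases hint (A ⊓ H₀) j inf_le_right with h2 | ⟨u, hu, h2⟩
    · -- trivial action
      refine ⟨Function.update w j 0, r, ?_, ?_, ?_⟩
      · intro i
        rcases eq_or_ne i j with rfl | hij
        · rw [Function.update_self, map_zero]
        · rw [Function.update_of_ne hij, hw]
      · intro i
        rw [hr]
        rcases eq_or_ne i j with rfl | hij
        · simp [hj]
        · rw [Function.update_of_ne hij, Finset.mem_insert]
          simp [hij]
      · have e1 : (⨅ i ∈ insert j s, (krn (e i) : Subgroup P)) = krn (e j) ⊓ A := by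
          rw [hA, Finset.iInf_insert]
        have e2 : (⨅ i ∈ insert j s, MulAction.stabilizer P (Function.update w j 0 i)) = S := by
          rw [Finset.iInf_insert, Function.update_self]
          have h3 : MulAction.stabilizer P (0 : V) = ⊤ := by
            ext g
            simp
          rw [h3, top_inf_eq, hS]
          refine iInf_congr fun i => iInf_congr fun hi => ?_
          rw [Function.update_of_ne]
          rintro rfl
          exact hj hi
        have h4 : (krn (e j) : Subgroup P).relIndex (A ⊓ H₀) = 1 := Subgroup.relIndex_eq_one.2 fun g hg v => h2 g hg v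
        rw [e1, e2, nu_inf, h4, Nat.factorization_one, Finsupp.zero_apply, zero_add]
        exact h1
    · -- nontrivial action
      have hu0 : u ≠ 0 := by
        rintro rfl
        have h3 : MulAction.stabilizer P (0 : V) = ⊤ := by
          ext g
          simp
        rw [h3, Subgroup.relIndex_top_left, Nat.factorization_one, Finsupp.zero_apply, mul_zero] at h2
        omega
      refine ⟨Function.update w j u, insert j r, ?_, ?_, ?_⟩
      · intro i
        rcases eq_or_ne i j with rfl | hij
        · rw [Function.update_self, hu]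
        · rw [Function.update_of_ne hij, hw]
      · intro i
        rw [Finset.mem_insert, hr, Finset.mem_insert]
        rcases eq_or_ne i j with rfl | hij
        · simp [hu0]
        · rw [Function.update_of_ne hij]
          simp [hij]
      · have e1 : (⨅ i ∈ insert j s, (krn (e i) : Subgroup P)) = krn (e j) ⊓ A := by
          rw [hA, Finset.iInf_insert]
        have e2 : (⨅ i ∈ insert j s, MulAction.stabilizer P (Function.update w j u i)) =
            MulAction.stabilizer P u ⊓ S := by
          rw [Finset.iInf_insert, Function.update_self, hS]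
          congr 1
          refine iInf_congr fun i => iInf_congr fun hi => ?_
          rw [Function.update_of_ne]
          rintro rfl
          exact hj hi
        have hjr : j ∉ r := fun h => hj ((hr j).1 h).1
        have h5 : ((MulAction.stabilizer P u).relIndex (A ⊓ H₀)).factorization p ≤
            ((MulAction.stabilizer P u).relIndex (S ⊓ H₀)).factorization p :=
          nu_right hP _ (inf_le_inf_right _ hAS)
        rw [e1, e2, nu_inf, nu_inf, Finset.card_insert_of_notMem hjr, mul_add, mul_add]
        have h6 := Nat.mul_le_mul_left p h5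
        omega

end

/-- the abstract claim gives the internal one -/
theorem int1_of {P V : Type u} [Group P] [AddCommGroup V] [DistribMulAction P V] {p : ℕ} (H : Subgroup P)
    (e : AddMonoid.End V) (he : e * e = e) (hc : ∀ g ∈ H, rh g * e = e * rh g)
    (h : ∀ _ : DistribMulAction ↥H ↥(AddMonoidHom.range (e : V →+ V)), Cl1 p ↥H ↥(AddMonoidHom.range (e : V →+ V))) :
    Int1 p H e := by
  have hX : ∀ g : ↥H, ∀ x ∈ AddMonoidHom.range (e : V →+ V), g • x ∈ AddMonoidHom.range (e : V →+ V) := by
    rintro g _ ⟨y, rfl⟩
    refine ⟨(g : P) • y, ?_⟩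
    have h1 := congrArg (fun a : AddMonoid.End V => a y) (hc g g.2)
    exact h1.symm
  have hfix : ∀ x ∈ AddMonoidHom.range (e : V →+ V), e x = x := by
    rintro _ ⟨y, rfl⟩
    have h1 := congrArg (fun a : AddMonoid.End V => a y) he
    exact h1
  let act := subAct (AddMonoidHom.range (e : V →+ V)) hX
  rcases h act with h1 | ⟨⟨v, hv⟩, h1⟩
  · left
    intro g hg v
    have h2 := h1 ⟨g, hg⟩ ⟨e v, v, rfl⟩
    exact congrArg Subtype.val h2
  · right
    refine ⟨v, hfix v hv, ?_⟩
    have e1 : kr ↥H ↥(AddMonoidHom.range (e : V →+ V)) = (krn e : Subgroup P).subgroupOf H := by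
      ext g
      rw [mem_kr, Subgroup.mem_subgroupOf, mem_krn]
      constructor
      · intro h2 v
        exact congrArg Subtype.val (h2 ⟨e v, v, rfl⟩)
      · rintro h2 ⟨_, y, rfl⟩
        exact Subtype.ext (h2 y)
    have e2 : MulAction.stabilizer ↥H (⟨v, hv⟩ : ↥(AddMonoidHom.range (e : V →+ V))) =
        (MulAction.stabilizer P v).subgroupOf H := by
      ext g
      rw [MulAction.mem_stabilizer_iff, Subgroup.mem_subgroupOf, MulAction.mem_stabilizer_iff]
      exact Subtype.ext_iff
    rw [e1, e2] at h1
    exact h1

end Cfsg.Agent.H242.RC
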