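import Mathlib

/-!
# S4191 (team RC), large orbits of `p`-groups: orthogonal idempotents (helper242)

Plan: `tools/plans/S4191.md`, section 2.
-/

set_option autoImplicit false

namespace Cfsg.Agent.H242.RC

open Finset

/-- `B`, `Z` : commuting images of two groups of order `p` in a ring, `∑ Z = 0`, `u = 1 / p`. -/
structure Fr {R : Type*} [Ring R] {p : ℕ} [NeZero p] (Bf Zf : ZMod p → R) (u : R) : Prop where
  up : u * (p : R) = 1
  uc : ∀ x : R, u * x = x * u
  b0 : Bf 0 = 1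
  z0 : Zf 0 = 1
  badd : ∀ k l, Bf (k + l) = Bf k * Bf l
  zadd : ∀ k l, Zf (k + l) = Zf k * Zf l
  comm : ∀ k l, Zf k * Bf l = Bf l * Zf k
  zsum : ∑ i, Zf i = 0

/-- the projector on the part where `b = z ^ (-i)` -/
noncomputable def E {R : Type*} [Ring R] {p : ℕ} [NeZero p] (Bf Zf : ZMod p → R) (u : R) (i : ZMod p) : R :=
  u * ∑ k, Bf k * Zf (i * k)

section

variable {R : Type*} [Ring R] {p : ℕ} [hp : Fact p.Prime] {Bf Zf : ZMod p → R} {u : R}

theorem Fr.sum_mul (h : Fr Bf Zf u) {a : ZMod p} (ha : a ≠ 0) : ∑ k, Zf (a * k) = 0 := by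
  rw [← h.zsum]
  exact Fintype.sum_equiv (Equiv.mulLeft₀ a ha) _ _ fun k => rfl

theorem Fr.sum_mul' (h : Fr Bf Zf u) {a : ZMod p} (ha : a ≠ 0) : ∑ k, Zf (k * a) = 0 := by
  rw [← h.sum_mul ha]
  exact Finset.sum_congr rfl fun k _ => by rw [mul_comm]

theorem Fr.sum_E (h : Fr Bf Zf u) : ∑ i, E Bf Zf u i = 1 := by
  have h1 : ∑ i, E Bf Zf u i = u * ∑ k, Bf k * ∑ i, Zf (i * k) := by
    simp only [E]
    rw [← Finset.mul_sum, Finset.sum_comm]
    congr 1
    exact Finset.sum_congr rfl fun k _ => (Finset.mul_sum _ _ _).symm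
  rw [h1, Finset.sum_eq_single 0]
  · have h2 : ∑ i : ZMod p, Zf (i * 0) = (p : R) := by
      rw [Finset.sum_congr rfl fun i _ => by rw [mul_zero, h.z0], Finset.sum_const, Finset.card_univ, ZMod.card,
        nsmul_eq_mul, mul_one]
    rw [h2, h.b0, one_mul, h.up]
  · intro k _ hk
    rw [h.sum_mul' hk, mul_zero]
  · intro hk
    exact absurd (Finset.mem_univ _) hk

theorem Fr.E_mul (h : Fr Bf Zf u) (i j : ZMod p) : E Bf Zf u i * E Bf Zf u j = if i = j then E Bf Zf u i else 0 := by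
  have h1 : E Bf Zf u i * E Bf Zf u j = u * (u * ∑ k, ∑ l, Bf k * Zf (i * k) * (Bf l * Zf (j * l))) := by
    have h2 : (∑ k, Bf k * Zf (i * k)) * (∑ l, Bf l * Zf (j * l)) =
        ∑ k, ∑ l, Bf k * Zf (i * k) * (Bf l * Zf (j * l)) := Finset.sum_mul_sum _ _ _ _
    rw [← h2]
    simp only [E]
    rw [mul_assoc, ← mul_assoc _ u, ← h.uc, mul_assoc]
  have h3 : ∀ k : ZMod p, ∑ l, Bf k * Zf (i * k) * (Bf l * Zf (j * l)) = ∑ m, Bf m * Zf (j * m) * Zf ((i - j) * k) := by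
    intro k
    refine Fintype.sum_equiv (Equiv.addLeft k) _ _ fun l => ?_
    rw [Equiv.coe_addLeft]
    have e1 : Bf k * Zf (i * k) * (Bf l * Zf (j * l)) = Bf (k + l) * Zf (i * k + j * l) := by
      rw [h.badd, h.zadd, mul_assoc (Bf k), ← mul_assoc (Zf (i * k)), h.comm]
      simp only [mul_assoc]
    rw [e1, mul_assoc, ← h.zadd]
    congr 2
    ring
  rw [h1, Finset.sum_congr rfl fun k _ => h3 k, Finset.sum_comm]
  have h4 : ∀ m : ZMod p, ∑ k, Bf m * Zf (j * m) * Zf ((i - j) * k) = Bf m * Zf (j * m) * ∑ k, Zf ((i - j) * k) :=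
    fun m => (Finset.mul_sum _ _ _).symm
  rw [Finset.sum_congr rfl fun m _ => h4 m, ← Finset.sum_mul]
  by_cases hij : i = j
  · rw [if_pos hij, hij, sub_self]
    have h5 : ∑ k : ZMod p, Zf (0 * k) = (p : R) := by
      rw [Finset.sum_congr rfl fun k _ => by rw [zero_mul, h.z0], Finset.sum_const, Finset.card_univ, ZMod.card,
        nsmul_eq_mul, mul_one]
    have h6 : ∀ S : R, u * (S * (p : R)) = S := fun S => by rw [← mul_assoc, h.uc, mul_assoc, h.up, mul_one]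
    rw [h5, h6, E]
  · rw [if_neg hij, h.sum_mul (sub_ne_zero.2 hij), mul_zero, mul_zero, mul_zero]

/-- equivariance -/
theorem Fr.conj_E (h : Fr Bf Zf u) {x : R} {c : ZMod p} (hz : ∀ k, x * Zf k = Zf k * x)
    (hb : ∀ k, x * Bf k = Bf k * Zf (c * k) * x) (i : ZMod p) : x * E Bf Zf u i = E Bf Zf u (i + c) * x := by
  simp only [E]
  rw [← mul_assoc, ← h.uc, mul_assoc, mul_assoc, Finset.mul_sum, Finset.sum_mul]
  congr 1
  refine Finset.sum_congr rfl fun k _ => ?_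
  rw [← mul_assoc, hb, mul_assoc, hz, ← mul_assoc, mul_assoc (Bf k), ← h.zadd]
  congr 3
  ring

/-- `b z^i` acts trivially on the image of `E i` -/
theorem Fr.bz_E (h : Fr Bf Zf u) (i : ZMod p) : Bf 1 * Zf i * E Bf Zf u i = E Bf Zf u i := by
  simp only [E]
  rw [← mul_assoc, ← h.uc, mul_assoc, Finset.mul_sum]
  congr 1
  refine Fintype.sum_equiv (Equiv.addLeft 1) _ _ fun k => ?_
  rw [Equiv.coe_addLeft, h.badd, mul_add, mul_one, h.zadd, mul_assoc (Bf 1), ← mul_assoc (Zf i), h.comm]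
  simp only [mul_assoc]

end

end Cfsg.Agent.H242.RC
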