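import Cfsg.Agent.H242.RC.RatRing
import Cfsg.Agent.H351.HalfTransConf
import Cfsg.Agent.S0126

/-!
# S4191 (team RC), large orbits of `p`-groups: the structure theorem (helper242)

`struct` : a `p`-group (`p` odd) acting faithfully on an abelian group of order prime to `p` acts fixed point freely, or has
an equivariant idempotent, or permutes `p` blocks cyclically.
-/

set_option autoImplicit false
set_option linter.unusedSectionVars false

namespace Cfsg.Agent.H242.RC

open Finset

section

variable {P V : Type*} [Group P] [AddCommGroup V] [DistribMulAction P V]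

/-- the representation as endomorphisms -/
def rh : P →* AddMonoid.End V := DistribMulAction.toAddMonoidEnd P V

theorem rh_apply (g : P) (v : V) : (rh g : AddMonoid.End V) v = g • v := rfl

theorem end_mul (a b : AddMonoid.End V) (v : V) : (a * b) v = a (b v) := rfl

theorem end_sum {ι : Type*} (s : Finset ι) (a : ι → AddMonoid.End V) (v : V) : (∑ i ∈ s, a i) v = ∑ i ∈ s, a i v := by
  classical
  induction s using Finset.induction_on with
  | empty => rfl
  | insert i s hi ih =>
    rw [Finset.sum_insert hi, Finset.sum_insert hi, ← ih]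
    rfl

theorem rh_eq_one {g : P} (hf : ∀ g : P, (∀ v : V, g • v = v) → g = 1) (h : (rh g : AddMonoid.End V) = 1) : g = 1 := by
  apply hf
  intro v
  rw [← rh_apply, h]
  rfl

variable {p : ℕ} [hp : Fact p.Prime]

theorem exists_u [Finite V] (hV : ¬ p ∣ Nat.card V) : ∃ m : ℕ, ((m : AddMonoid.End V)) * (p : AddMonoid.End V) = 1 := by
  have hcop : Nat.Coprime p (Nat.card V) := (Nat.Prime.coprime_iff_not_dvd hp.out).2 hV
  obtain ⟨a, b, hab⟩ := (Nat.isCoprime_iff_coprime.2 hcop)
  -- `a p + b |V| = 1`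
  refine ⟨(a % (Nat.card V : ℤ)).toNat, ?_⟩
  have hpos : (0 : ℤ) < Nat.card V := by exact_mod_cast Nat.card_pos
  have h0 : 0 ≤ a % (Nat.card V : ℤ) := Int.emod_nonneg _ hpos.ne'
  ext v
  rw [end_mul, AddMonoid.End.natCast_apply, AddMonoid.End.natCast_apply]
  have hz : ∀ w : V, (Nat.card V : ℤ) • w = 0 := by
    intro w
    rw [natCast_zsmul, card_nsmul_eq_zero']
  have h1 : ((a % (Nat.card V : ℤ)).toNat : ℤ) = a - (Nat.card V : ℤ) * (a / (Nat.card V : ℤ)) := by
    rw [Int.toNat_of_nonneg h0, Int.emod_def]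
  rw [← natCast_zsmul (p • v), ← natCast_zsmul v p, h1, sub_smul, mul_smul, hz, sub_zero, smul_smul]
  have h2 : a * (p : ℤ) = 1 - b * (Nat.card V : ℤ) := by linarith
  rw [h2, sub_smul, one_smul, mul_smul, hz, smul_zero, sub_zero]
  rfl

theorem pow_val_add {z : P} (hz : z ^ p = 1) (k l : ZMod p) : z ^ (k + l).val = z ^ k.val * z ^ l.val := by
  rw [ZMod.val_add, ← pow_add]
  conv_rhs => rw [← Nat.div_add_mod (k.val + l.val) p, pow_add, pow_mul, hz, one_pow, one_mul]

theorem pow_natCast_val {z : P} (hz : z ^ p = 1) (n : ℕ) : z ^ (n : ZMod p).val = z ^ n := by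
  rw [ZMod.val_natCast]
  conv_rhs => rw [← Nat.div_add_mod n p, pow_add, pow_mul, hz, one_pow, one_mul]

theorem pow_val_mul {z : P} (hz : z ^ p = 1) (k l : ZMod p) : z ^ (k * l).val = z ^ (k.val * l.val) := by
  rw [← pow_natCast_val hz (k.val * l.val), Nat.cast_mul, ZMod.natCast_zmod_val, ZMod.natCast_zmod_val]

/-- a central element of order `p`: fixed point free, or an equivariant idempotent -/
theorem split [Finite V] (hV : ¬ p ∣ Nat.card V) (hf : ∀ g : P, (∀ v : V, g • v = v) → g = 1) {z : P} (hz : z ^ p = 1)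
    (hz1 : z ≠ 1) (hc : ∀ g : P, g * z = z * g) :
    (∑ k : ZMod p, (rh (z ^ k.val) : AddMonoid.End V) = 0) ∨
      ∃ e : AddMonoid.End V, e * e = e ∧ e ≠ 0 ∧ e ≠ 1 ∧ ∀ g : P, rh g * e = e * rh g := by
  obtain ⟨m, hm⟩ := exists_u (V := V) hV
  set N : AddMonoid.End V := ∑ k : ZMod p, rh (z ^ k.val) with hN
  have hmc : ∀ x : AddMonoid.End V, (m : AddMonoid.End V) * x = x * m := fun x => (Nat.cast_commute m x).eq
  have hpc : ∀ x : AddMonoid.End V, (p : AddMonoid.End V) * x = x * p := fun x => (Nat.cast_commute p x).eq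
  have h1 : ∀ k : ZMod p, rh (z ^ k.val) * N = N := by
    intro k
    rw [hN, Finset.mul_sum]
    refine Fintype.sum_equiv (Equiv.addLeft k) _ _ fun l => ?_
    rw [Equiv.coe_addLeft, pow_val_add hz, map_mul]
  have h2 : N * N = p * N := by
    nth_rewrite 1 [hN]
    rw [Finset.sum_mul, Finset.sum_congr rfl fun k _ => h1 k, Finset.sum_const, Finset.card_univ, ZMod.card,
      nsmul_eq_mul]
  have h3 : ∀ g : P, rh g * N = N * rh g := by
    intro g
    rw [hN, Finset.mul_sum, Finset.sum_mul]
    refine Finset.sum_congr rfl fun k _ => ?_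
    rw [← map_mul, ← map_mul]
    congr 1
    exact ((show Commute g z from hc g).pow_right _).eq
  by_cases hN0 : N = 0
  · exact Or.inl hN0
  right
  have hpm : (p : AddMonoid.End V) * m = 1 := by rw [← hmc, hm]
  refine ⟨m * N, ?_, ?_, ?_, ?_⟩
  · calc (m : AddMonoid.End V) * N * (m * N) = m * (N * m) * N := by simp only [mul_assoc]
      _ = m * (m * N) * N := by rw [hmc N]
      _ = m * (m * (N * N)) := by simp only [mul_assoc]
      _ = m * (m * (p * N)) := by rw [h2]
      _ = m * ((m * p) * N) := by simp only [mul_assoc]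
      _ = m * N := by rw [hm, one_mul]
  · intro h
    apply hN0
    calc N = (p : AddMonoid.End V) * m * N := by rw [hpm, one_mul]
      _ = 0 := by rw [mul_assoc, h, mul_zero]
  · intro h
    apply hz1
    apply rh_eq_one (V := V) hf
    have h4 : N = (p : AddMonoid.End V) := by
      calc N = (p : AddMonoid.End V) * m * N := by rw [hpm, one_mul]
        _ = p := by rw [mul_assoc, h, mul_one]
    have h5 := h1 1
    rw [ZMod.val_one, pow_one, h4] at h5
    calc (rh z : AddMonoid.End V) = rh z * ((p : AddMonoid.End V) * (m : AddMonoid.End V)) := by rw [hpm, mul_one]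
      _ = 1 := by rw [← mul_assoc, h5, hpm]
  · intro g
    rw [← mul_assoc, ← hmc, mul_assoc, h3, ← mul_assoc]

/-- cyclic groups -/
theorem fpf_of_cyclic [Finite P] (hP : IsPGroup p P) (hc : IsCyclic P) (hV : ¬ p ∣ Nat.card V) [Finite V] {z : P}
    (hz : z ^ p = 1) (h0 : ∑ k : ZMod p, (rh (z ^ k.val) : AddMonoid.End V) = 0) (g : P) (v : V) (hv : v ≠ 0)
    (hgv : g • v = v) : g = 1 := by
  classical
  by_contra hg
  obtain ⟨k, hk⟩ := hP g
  -- a power of `g` of order `p`
  obtain ⟨g', hg', hg'o⟩ : ∃ g' ∈ Subgroup.zpowers g, orderOf g' = p := by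
    obtain ⟨n, hn⟩ := (IsPGroup.iff_orderOf.1 hP) g
    have hn0 : n ≠ 0 := by
      rintro rfl
      rw [pow_zero, orderOf_eq_one_iff] at hn
      exact hg hn
    refine ⟨g ^ p ^ (n - 1), Subgroup.pow_mem _ (Subgroup.mem_zpowers g) _, ?_⟩
    rw [orderOf_pow, hn, Nat.gcd_eq_right (pow_dvd_pow p (Nat.sub_le n 1)), Nat.pow_div (Nat.sub_le n 1) hp.out.pos]
    have : n - (n - 1) = 1 := by omega
    rw [this, pow_one]
  have : Fintype P := Fintype.ofFinite P
  have h1 : z ∈ Subgroup.zpowers g' := by
    have h2 : (Finset.univ.filter fun a : P => a ∈ Subgroup.zpowers g') ⊆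
        Finset.univ.filter fun a : P => a ^ p = 1 := by
      intro a ha
      rw [Finset.mem_filter] at ha ⊢
      refine ⟨ha.1, ?_⟩
      obtain ⟨j, rfl⟩ := ha.2
      show (g' ^ j) ^ p = 1
      rw [← zpow_natCast, ← zpow_mul, mul_comm, zpow_mul, zpow_natCast, ← hg'o, pow_orderOf_eq_one, one_zpow]
    have h3 : (Finset.univ.filter fun a : P => a ∈ Subgroup.zpowers g').card = p := by
      rw [← Fintype.card_subtype, ← Nat.card_eq_fintype_card]
      exact (Nat.card_zpowers g').trans hg'o
    have h4 := IsCyclic.card_pow_eq_one_le (α := P) hp.out.pos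
    have h5 := Finset.eq_of_subset_of_card_le h2 (by rw [h3]; exact h4)
    have h6 : z ∈ Finset.univ.filter fun a : P => a ^ p = 1 := by
      rw [Finset.mem_filter]
      exact ⟨Finset.mem_univ _, hz⟩
    rw [← h5, Finset.mem_filter] at h6
    exact h6.2
  have hst : ∀ x ∈ Subgroup.zpowers g, x • v = v := by
    intro x hx
    have h2 : Subgroup.zpowers g ≤ MulAction.stabilizer P v := Subgroup.zpowers_le.2 hgv
    exact h2 hx
  have hzv : z • v = v := hst z (Subgroup.zpowers_le.2 hg' h1)
  have h2 : (∑ k : ZMod p, (rh (z ^ k.val) : AddMonoid.End V)) v = (p : ℕ) • v := by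
    rw [end_sum]
    have h3 : ∀ k : ZMod p, (rh (z ^ k.val) : AddMonoid.End V) v = v := by
      intro k
      rw [rh_apply]
      have h2 : Subgroup.zpowers z ≤ MulAction.stabilizer P v := Subgroup.zpowers_le.2 hzv
      exact h2 (Subgroup.pow_mem _ (Subgroup.mem_zpowers z) _)
    rw [Finset.sum_congr rfl fun k _ => h3 k, Finset.sum_const, Finset.card_univ, ZMod.card]
  rw [h0] at h2
  have h3 : (p : ℕ) • v = 0 := h2.symm
  apply hv
  have h4 : addOrderOf v ∣ p := addOrderOf_dvd_of_nsmul_eq_zero h3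
  have h5 : addOrderOf v ∣ Nat.card V := addOrderOf_dvd_natCard v
  rcases (Nat.dvd_prime hp.out).1 h4 with h6 | h6
  · exact AddMonoid.addOrderOf_eq_one_iff.1 h6
  · rw [h6] at h5
    exact absurd h5 hV

/-- **Structure.** -/
theorem struct [Finite P] [Finite V] (hp2 : p ≠ 2) (hP : IsPGroup p P) (hV : ¬ p ∣ Nat.card V)
    (hf : ∀ g : P, (∀ v : V, g • v = v) → g = 1) :
    (∀ (g : P) (v : V), v ≠ 0 → g • v = v → g = 1) ∨
    (∃ e : AddMonoid.End V, e * e = e ∧ e ≠ 0 ∧ e ≠ 1 ∧ ∀ g : P, rh g * e = e * rh g) ∨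
    (∃ (c : P → ZMod p) (e : ZMod p → AddMonoid.End V), (∀ g h, c (g * h) = c g + c h) ∧ (∃ t, c t = 1) ∧
      ∑ i, e i = 1 ∧ (∀ i j, e i * e j = if i = j then e i else 0) ∧
      ∀ (g : P) (i : ZMod p), rh g * e i = e (i + c g) * rh g) := by
  classical
  by_cases hcyc : IsCyclic P
  · -- cyclic
    rcases subsingleton_or_nontrivial P with hs | hnt
    · exact Or.inl fun g _ _ _ => Subsingleton.elim _ _
    obtain ⟨z, hz⟩ := exists_prime_orderOf_dvd_card' (G := P) p (by
      obtain ⟨n, hn⟩ := hP.exists_card_eq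
      have h1 : 1 < Nat.card P := Finite.one_lt_card
      have hn0 : n ≠ 0 := by
        rintro rfl
        rw [hn, pow_zero] at h1
        exact lt_irrefl _ h1
      rw [hn]
      exact dvd_pow_self p hn0)
    have hzp : z ^ p = 1 := by rw [← hz]; exact pow_orderOf_eq_one z
    have hz1 : z ≠ 1 := by
      rintro rfl
      rw [orderOf_one] at hz
      exact hp.out.one_lt.ne hz
    have hcomm : ∀ g : P, g * z = z * g := by
      intro g
      have := IsCyclic.isMulCommutative (α := P)
      exact this.is_comm.comm g z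
    rcases split hV hf hzp hz1 hcomm with h | h
    · exact Or.inl fun g v hv hgv => fpf_of_cyclic hP hcyc hV hzp h g v hv hgv
    · exact Or.inr (Or.inl h)
  obtain ⟨A, hA, hAe, hAc⟩ := S0126.result hp2 hP hcyc
  have hAnc : ¬ IsCyclic A := by
    intro h
    obtain ⟨a, ha⟩ := h.exists_generator
    have h1 : orderOf a = Nat.card A := orderOf_eq_card_of_forall_mem_zpowers ha
    have h2 : a ^ p = 1 := Subtype.ext (hAe.2 a a.2)
    have h3 : orderOf a ∣ p := orderOf_dvd_of_pow_eq_one h2
    rw [h1, hAc] at h3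
    have h4 := Nat.le_of_dvd hp.out.pos h3
    have h5 := hp.out.one_lt
    nlinarith
  obtain ⟨z, b, hzc, hzo, hbp, hbz, hconj⟩ := H351.HT.exists_config hP A hAe.1 hAnc
  have hzp : z ^ p = 1 := by rw [← hzo]; exact pow_orderOf_eq_one z
  have hz1 : z ≠ 1 := by
    rintro rfl
    rw [orderOf_one] at hzo
    exact hp.out.one_lt.ne hzo
  rcases split hV hf hzp hz1 hzc with h0 | h
  swap
  · exact Or.inr (Or.inl h)
  right
  obtain ⟨m, hm⟩ := exists_u (V := V) hV
  have hzb : ∀ k l : ℕ, z ^ k * b ^ l = b ^ l * z ^ k := fun k l =>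
    ((show Commute b z from hzc b).symm.pow_pow k l).eq
  have hFr : Fr (fun k : ZMod p => (rh (b ^ k.val) : AddMonoid.End V)) (fun k : ZMod p => rh (z ^ k.val)) (m : AddMonoid.End V) :=
    { up := hm
      uc := fun x => (Nat.cast_commute m x).eq
      b0 := by rw [ZMod.val_zero, pow_zero, map_one]
      z0 := by rw [ZMod.val_zero, pow_zero, map_one]
      badd := fun k l => by rw [pow_val_add hbp, map_mul]
      zadd := fun k l => by rw [pow_val_add hzp, map_mul]
      comm := fun k l => by rw [← map_mul, ← map_mul, hzb]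
      zsum := h0 }
  choose c' hc' using hconj
  set c : P → ZMod p := fun g => (c' g : ZMod p) with hcdef
  have hc : ∀ g : P, g * b * g⁻¹ = b * z ^ (c g).val := by
    intro g
    rw [hcdef, pow_natCast_val hzp]
    exact hc' g
  have hzinj : ∀ k l : ZMod p, z ^ k.val = z ^ l.val → k = l := by
    intro k l h
    apply ZMod.val_injective
    exact pow_injOn_Iio_orderOf (by rw [Set.mem_Iio, hzo]; exact ZMod.val_lt k)
      (by rw [Set.mem_Iio, hzo]; exact ZMod.val_lt l) h
  have hcadd : ∀ g h : P, c (g * h) = c g + c h := by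
    intro g h
    apply hzinj
    have h1 : b * z ^ (c (g * h)).val = b * z ^ (c g + c h).val := by
      rw [← hc, pow_val_add hzp]
      calc g * h * b * (g * h)⁻¹ = g * (h * b * h⁻¹) * g⁻¹ := by group
        _ = g * (b * z ^ (c h).val) * g⁻¹ := by rw [hc]
        _ = g * b * g⁻¹ * (g * z ^ (c h).val * g⁻¹) := by group
        _ = g * b * g⁻¹ * z ^ (c h).val := by
            rw [((show Commute g z from hzc g).pow_right _).eq, mul_inv_cancel_right]
        _ = b * (z ^ (c g).val * z ^ (c h).val) := by rw [hc, mul_assoc]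
    exact mul_left_cancel h1
  have hequiv : ∀ (g : P) (i : ZMod p), rh g * E (fun k : ZMod p => (rh (b ^ k.val) : AddMonoid.End V))
      (fun k : ZMod p => rh (z ^ k.val)) (m : AddMonoid.End V) i =
      E (fun k : ZMod p => (rh (b ^ k.val) : AddMonoid.End V)) (fun k : ZMod p => rh (z ^ k.val))
        (m : AddMonoid.End V) (i + c g) * rh g := by
    intro g i
    refine hFr.conj_E (fun k => ?_) (fun k => ?_) i
    · show rh g * rh (z ^ k.val) = rh (z ^ k.val) * rh g
      rw [← map_mul, ← map_mul, ((show Commute g z from hzc g).pow_right _).eq]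
    · show rh g * rh (b ^ k.val) = rh (b ^ k.val) * rh (z ^ (c g * k).val) * rh g
      rw [← map_mul, ← map_mul, ← map_mul]
      congr 1
      have h1 : g * b ^ k.val * g⁻¹ = b ^ k.val * z ^ (c g * k).val := by
        rw [← conj_pow, hc, ((show Commute b z from hzc b).pow_right _).mul_pow,
          pow_val_mul hzp, pow_mul]
      rw [← h1, inv_mul_cancel_right]
  by_cases hall : ∀ g, c g = 0
  · -- `b` is central
    left
    by_contra hcon
    push Not at hcon
    have h1 : ∀ i, E (fun k : ZMod p => (rh (b ^ k.val) : AddMonoid.End V)) (fun k : ZMod p => rh (z ^ k.val))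
        (m : AddMonoid.End V) i = 0 ∨ E (fun k : ZMod p => (rh (b ^ k.val) : AddMonoid.End V))
        (fun k : ZMod p => rh (z ^ k.val)) (m : AddMonoid.End V) i = 1 := by
      intro i
      by_contra hne
      push Not at hne
      obtain ⟨g, hg⟩ := hcon _ (by rw [hFr.E_mul, if_pos rfl]) hne.1 hne.2
      apply hg
      rw [hequiv g i, hall g, add_zero]
    by_cases hE0 : ∀ i, E (fun k : ZMod p => (rh (b ^ k.val) : AddMonoid.End V)) (fun k : ZMod p => rh (z ^ k.val))
        (m : AddMonoid.End V) i = 0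
    · have h2 := hFr.sum_E
      rw [Finset.sum_congr rfl fun i _ => hE0 i, Finset.sum_const_zero] at h2
      apply hz1
      apply hf
      intro v
      have h3 : v = 0 := by
        have := congrArg (fun e : AddMonoid.End V => e v) h2
        exact this.symm
      rw [h3, smul_zero]
    · push Not at hE0
      obtain ⟨i, hi⟩ := hE0
      have h2 := (h1 i).resolve_left hi
      have h3 := hFr.bz_E i
      rw [h2, mul_one] at h3
      have h4 : (rh (b * z ^ i.val) : AddMonoid.End V) = 1 := by
        rw [map_mul]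
        rw [ZMod.val_one, pow_one] at h3
        exact h3
      have h5 := rh_eq_one (V := V) hf h4
      apply hbz
      rw [mul_eq_one_iff_eq_inv.1 h5]
      exact Subgroup.inv_mem _ (Subgroup.pow_mem _ (Subgroup.mem_zpowers z) _)
  · right
    push Not at hall
    obtain ⟨g, hg⟩ := hall
    refine ⟨c, _, hcadd, ?_, hFr.sum_E, hFr.E_mul, hequiv⟩
    have hcpow : ∀ n : ℕ, c (g ^ n) = n * c g := by
      intro n
      induction n with
      | zero =>
        have h1 := hcadd 1 1
        rw [mul_one] at h1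
        rw [pow_zero, Nat.cast_zero, zero_mul]
        exact left_eq_add.1 h1
      | succ n ih => rw [pow_succ, hcadd, ih, Nat.cast_succ]; ring
    exact ⟨g ^ ((c g)⁻¹).val, by rw [hcpow, ZMod.natCast_zmod_val, inv_mul_cancel₀ hg]⟩

end

end Cfsg.Agent.H242.RC
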