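import Cfsg.Agent.H242.RC.Rat

/-!
# S4191 (team RC), two regular orbits of `5`-groups; `rat_three`, `rat_five`, `rat_ge` (helper242)
-/

set_option autoImplicit false
set_option linter.unusedSectionVars false

namespace Cfsg.Agent.H242.RC

open Finset

universe u

/-- the abstract claim gives the internal one -/
theorem int2_of {P V : Type u} [Group P] [AddCommGroup V] [DistribMulAction P V] (H : Subgroup P)
    (e : AddMonoid.End V) (he : e * e = e) (he0 : e ≠ 0) (hc : ∀ g ∈ H, rh g * e = e * rh g)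
    (h : ∀ _ : DistribMulAction ↥H ↥(AddMonoidHom.range (e : V →+ V)), Cl2 ↥H ↥(AddMonoidHom.range (e : V →+ V))) :
    ∃ w w' : V, e w = w ∧ e w' = w' ∧ (∀ g ∈ H, g • w = w → ∀ v, g • e v = e v) ∧
      (∀ g ∈ H, g • w' = w' → ∀ v, g • e v = e v) ∧ ∀ g ∈ H, g • w ≠ w' := by
  have hX : ∀ g : ↥H, ∀ x ∈ AddMonoidHom.range (e : V →+ V), g • x ∈ AddMonoidHom.range (e : V →+ V) := by
    rintro g _ ⟨y, rfl⟩
    refine ⟨(g : P) • y, ?_⟩
    have h1 := congrArg (fun a : AddMonoid.End V => a y) (hc g g.2)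
    exact h1.symm
  have hfix : ∀ x ∈ AddMonoidHom.range (e : V →+ V), e x = x := by
    rintro _ ⟨y, rfl⟩
    have h1 := congrArg (fun a : AddMonoid.End V => a y) he
    exact h1
  have hnt : Nontrivial ↥(AddMonoidHom.range (e : V →+ V)) := by
    obtain ⟨v, hv⟩ : ∃ v, e v ≠ 0 := by
      by_contra hcon
      push Not at hcon
      exact he0 (AddMonoidHom.ext hcon)
    exact ⟨⟨⟨e v, v, rfl⟩, 0, fun h0 => hv (congrArg Subtype.val h0)⟩⟩
  let act := subAct (AddMonoidHom.range (e : V →+ V)) hX
  obtain ⟨⟨w, hw⟩, ⟨w', hw'⟩, h1, h2, h3⟩ := h act hnt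
  refine ⟨w, w', hfix w hw, hfix w' hw', ?_, ?_, ?_⟩
  · intro g hg hgw v
    exact congrArg Subtype.val (h1 ⟨g, hg⟩ (Subtype.ext hgw) ⟨e v, v, rfl⟩)
  · intro g hg hgw v
    exact congrArg Subtype.val (h2 ⟨g, hg⟩ (Subtype.ext hgw) ⟨e v, v, rfl⟩)
  · intro g hg hgw
    exact h3 ⟨g, hg⟩ (Subtype.ext hgw)

section Cl2

variable {p : ℕ} [hp : Fact p.Prime]

/-- a group acting fixed point freely and transitively on the nonzero vectors -/
theorem pow_two_of_trans {P V : Type*} [Group P] [AddCommGroup V] [Finite V] [DistribMulAction P V] {v : V}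
    (htr : ∀ w : V, w ≠ 0 → ∃ g : P, g • v = w) (h2 : 2 ∣ Nat.card V) : ∃ k : ℕ, Nat.card V = 2 ^ k := by
  have h2' := Fact.mk Nat.prime_two
  have horder : ∀ (g : P) (w : V), addOrderOf (g • w) = addOrderOf w := by
    intro g w
    exact (DistribMulAction.toAddEquiv V g).addOrderOf_eq w
  obtain ⟨y, hy⟩ := exists_prime_addOrderOf_dvd_card' (G := V) 2 h2
  have hy0 : y ≠ 0 := by
    rintro rfl
    rw [addOrderOf_zero] at hy
    exact absurd hy (by norm_num)
  obtain ⟨g, hg⟩ := htr y hy0
  have hv2 : addOrderOf v = 2 := by rw [← hy, ← hg, horder]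
  refine ⟨_, Nat.eq_prime_pow_of_unique_prime_dvd Nat.card_pos.ne' ?_⟩
  intro q hq hdvd
  have := Fact.mk hq
  obtain ⟨x, hx⟩ := exists_prime_addOrderOf_dvd_card' (G := V) q hdvd
  have hx0 : x ≠ 0 := by
    rintro rfl
    rw [addOrderOf_zero] at hx
    exact hq.one_lt.ne hx
  obtain ⟨k, hk⟩ := htr x hx0
  rw [← hx, ← hk, horder, hv2]

/-- the induction step, faithful action -/
theorem cl2_step (hp2 : p ≠ 2) (hM : ∀ j k : ℕ, 1 + p ^ j = 2 ^ k → j = 0) {P V : Type u} [Group P] [Finite P]
    [AddCommGroup V] [Finite V] [DistribMulAction P V]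
    (hP : IsPGroup p P) (hV : ¬ p ∣ Nat.card V) (hf : ∀ g : P, (∀ v : V, g • v = v) → g = 1)
    (IH : ∀ (P' V' : Type u) [Group P'] [Finite P'] [AddCommGroup V'] [Finite V'] [DistribMulAction P' V'],
      Nat.card V' < Nat.card V → IsPGroup p P' → ¬ p ∣ Nat.card V' → Cl2 P' V') : Cl2 P V := by
  classical
  intro hVnt
  have hp1 := hp.out.one_lt
  obtain ⟨v₀, hv₀⟩ := exists_ne (0 : V)
  rcases subsingleton_or_nontrivial P with hs | hnt
  · have h1 : ∀ (g : P) (w : V), g • w = w := fun g w => by rw [Subsingleton.elim g 1, one_smul]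
    exact ⟨0, v₀, fun g _ => h1 g, fun g _ => h1 g, fun g => by rw [h1]; exact hv₀.symm⟩
  have hint : ∀ (H : Subgroup P) (e : AddMonoid.End V), e * e = e → e ≠ 0 → e ≠ 1 → (∀ g ∈ H, rh g * e = e * rh g) →
      ∃ w w' : V, e w = w ∧ e w' = w' ∧ (∀ g ∈ H, g • w = w → ∀ v, g • e v = e v) ∧
      (∀ g ∈ H, g • w' = w' → ∀ v, g • e v = e v) ∧ ∀ g ∈ H, g • w ≠ w' := by
    intro H e he he0 he1 hce
    exact int2_of H e he he0 hce fun _ => IH _ _ (card_range_lt he he1) (hP.to_subgroup H) (coprime_sub hV _)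
  rcases struct hp2 hP hV hf with h | ⟨e, he, he0, he1, hce⟩ | ⟨c, e, hcadd, ⟨t, ht⟩, hsum, hmul, hequiv⟩
  · -- fixed point free
    have hreg : ∀ v : V, v ≠ 0 → ∀ g : P, g • v = v → ∀ w : V, g • w = w := by
      intro v hv g hg w
      rw [h g v hv hg, one_smul]
    by_cases htr : ∀ w : V, w ≠ 0 → ∃ g : P, g • v₀ = w
    · exfalso
      -- `|V| = 1 + |P|`
      have hcard : Nat.card V = 1 + Nat.card P := by
        have h1 : Nat.card {w : V // w ≠ 0} = Nat.card P := by
          symm
          refine Nat.card_congr (Equiv.ofBijective (fun g : P => (⟨g • v₀, ?_⟩ : {w : V // w ≠ 0})) ⟨?_, ?_⟩)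
          · rw [Ne, smul_eq_zero_iff_eq]
            exact hv₀
          · intro g k hgk
            have h2 : g • v₀ = k • v₀ := congrArg Subtype.val hgk
            have h3 : (k⁻¹ * g) • v₀ = v₀ := by rw [mul_smul, h2, inv_smul_smul]
            have h4 := h _ _ hv₀ h3
            rw [inv_mul_eq_one] at h4
            exact h4.symm
          · rintro ⟨w, hw⟩
            obtain ⟨g, hg⟩ := htr w hw
            exact ⟨g, Subtype.ext hg⟩
        rw [← h1, Nat.card_congr (Equiv.sumCompl (fun w : V => w = 0)).symm, Nat.card_sum]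
        congr 1
        exact Nat.card_unique
      obtain ⟨j, hj⟩ := hP.exists_card_eq
      have hodd : Odd (p ^ j) := (hp.out.odd_of_ne_two hp2).pow
      have h2 : 2 ∣ Nat.card V := by
        rw [hcard, hj]
        obtain ⟨a, ha⟩ := hodd
        exact ⟨a + 1, by omega⟩
      obtain ⟨k, hk⟩ := pow_two_of_trans htr h2
      have hj0 : j = 0 := hM j k (by rw [← hj, ← hcard, hk])
      rw [hj0, pow_zero] at hj
      exact (Finite.one_lt_card (α := P)).ne' hj
    · push Not at htr
      obtain ⟨w, hw, hw'⟩ := htr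
      exact ⟨v₀, w, hreg v₀ hv₀, hreg w hw, hw'⟩
  · -- reducible
    have he' : (1 - e) * (1 - e) = 1 - e := by
      have h2 : (1 - e) * e = 0 := by rw [sub_mul, one_mul, he, sub_self]
      rw [mul_sub, mul_one, h2, sub_zero]
    have hce' : ∀ g : P, rh g * (1 - e) = (1 - e) * rh g := by
      intro g
      rw [mul_sub, sub_mul, hce, mul_one, one_mul]
    have he0' : 1 - e ≠ 0 := fun h => he1 (sub_eq_zero.1 h).symm
    have he1' : 1 - e ≠ 1 := fun h => he0 (sub_eq_self.1 h)
    obtain ⟨x, x', hx, hx', h1, h2, h3⟩ := hint ⊤ e he he0 he1 fun g _ => hce g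
    obtain ⟨y, -, hy, -, h4, -, -⟩ := hint (krn e) (1 - e) he' he0' he1' fun g _ => hce' g
    have hey : e y = 0 := by
      have h5 : e ((1 - e) y) = 0 := by
        have h6 : e * (1 - e) = 0 := by rw [mul_sub, mul_one, he, sub_self]
        exact congrArg (fun a : AddMonoid.End V => a y) h6
      rw [hy] at h5
      exact h5
    have hap : ∀ (g : P) (v : V), e (g • v) = g • e v := fun g v =>
      (congrArg (fun a : AddMonoid.End V => a v) (hce g)).symm
    have key : ∀ z : V, e z = z → (∀ g ∈ (⊤ : Subgroup P), g • z = z → ∀ v, g • e v = e v) →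
        ∀ g : P, g • (z + y) = z + y → ∀ w : V, g • w = w := by
      intro z hz h5 g hg w
      have h6 : g • z = z := by
        have := hap g (z + y)
        rw [hg, map_add, hz, hey, add_zero] at this
        exact this.symm
      have h7 : g • y = y := by
        rw [smul_add, h6] at hg
        exact add_left_cancel hg
      have h8 := h5 g trivial h6
      have h9 := h4 g (fun v => h8 v) h7
      have h10 : w = e w + (1 - e) w := by
        show w = e w + (w - e w)
        abel
      rw [h10, smul_add, h8, h9]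
    refine ⟨x + y, x' + y, key x hx h1, key x' hx' h2, ?_⟩
    intro g hg
    apply h3 g trivial
    have := hap g (x + y)
    rw [hg, map_add, map_add, hx, hx', hey, add_zero, add_zero] at this
    exact this.symm
  · -- induced
    have hc1 : c 1 = 0 := by
      have h1 := hcadd 1 1
      rw [mul_one] at h1
      exact left_eq_add.1 h1
    have hcinv : ∀ g, c g⁻¹ = - c g := by
      intro g
      have h1 := hcadd g g⁻¹
      rw [mul_inv_cancel, hc1] at h1
      exact (neg_eq_of_add_eq_zero_right h1.symm).symm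
    have hpow : ∀ n : ℕ, c (t ^ n) = n := by
      intro n
      induction n with
      | zero => rw [pow_zero, hc1, Nat.cast_zero]
      | succ n ih => rw [pow_succ, hcadd, ih, ht, Nat.cast_succ]
    have hcT : ∀ i : ZMod p, c (t ^ i.val) = i := fun i => by rw [hpow, ZMod.natCast_zmod_val]
    let P₀ : Subgroup P :=
      { carrier := {g | c g = 0}
        one_mem' := hc1
        mul_mem' := fun {a b} ha hb => by
          show c (a * b) = 0
          rw [hcadd, show c a = 0 from ha, show c b = 0 from hb, add_zero]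
        inv_mem' := fun {a} ha => by
          show c a⁻¹ = 0
          rw [hcinv, show c a = 0 from ha, neg_zero] }
    have hP₀ : ∀ g, g ∈ P₀ ↔ c g = 0 := fun _ => Iff.rfl
    have hmove : ∀ (g : P) (i : ZMod p) (v : V), g • e i v = e (i + c g) (g • v) := fun g i v =>
      congrArg (fun a : AddMonoid.End V => a v) (hequiv g i)
    have hne0 : ∀ i, ∃ v, e i v ≠ 0 := by
      obtain ⟨j, hj⟩ : ∃ j, e j v₀ ≠ 0 := by
        by_contra hcon
        push Not at hcon
        apply hv₀
        rw [← sum_e hsum v₀, Finset.sum_congr rfl fun i _ => hcon i, Finset.sum_const_zero]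
      intro i
      refine ⟨t ^ (i - j).val • v₀, ?_⟩
      have h1 := hmove (t ^ (i - j).val) j v₀
      rw [hcT, add_sub_cancel] at h1
      rw [← h1]
      intro h2
      rw [smul_eq_zero_iff_eq] at h2
      exact hj h2
    have hne1 : ∀ i, e i ≠ 1 := by
      intro i h
      obtain ⟨v, hv⟩ := hne0 (i + 1)
      apply hv
      have h1 := e_orth hmul (i := i) (j := i + 1) (by
        intro h2
        exact one_ne_zero (left_eq_add.1 h2)) v
      rw [h] at h1
      exact h1
    have hce : ∀ g ∈ P₀, ∀ i, rh g * e i = e i * rh g := by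
      intro g hg i
      rw [hequiv, (hP₀ g).1 hg, add_zero]
    obtain ⟨a, b, ha, hb, h1, h2, h3⟩ := hint P₀ (e 0) (by rw [hmul, if_pos rfl])
      (by
        intro h
        obtain ⟨v, hv⟩ := hne0 0
        apply hv
        rw [h]
        rfl) (hne1 0) fun g hg => hce g hg 0
    -- the vectors
    let W : Set (ZMod p) → ZMod p → V := fun I i => t ^ i.val • (if i ∈ I then a else b)
    have hWe : ∀ I i, e i (W I i) = W I i := by
      intro I i
      have h5 : ∀ x : V, e 0 x = x → e i (t ^ i.val • x) = t ^ i.val • x := by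
        intro x hx
        have h6 := hmove (t ^ i.val) 0 x
        rw [hcT, zero_add, hx] at h6
        exact h6.symm
      show e i (t ^ i.val • (if i ∈ I then a else b)) = t ^ i.val • (if i ∈ I then a else b)
      split_ifs
      · exact h5 a ha
      · exact h5 b hb
    have hmv : ∀ (I J : Set (ZMod p)) (g : P), g • ∑ i, W I i = ∑ i, W J i → ∀ i, g • W I i = W J (i + c g) := by
      intro I J g hg i
      have h5 := hmove g i (∑ i, W I i)
      rw [hg, e_sum hmul (hWe I), e_sum hmul (hWe J)] at h5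
      exact h5
    have hred : ∀ (g : P) (i : ZMod p) (x y : V), g • t ^ i.val • x = t ^ (i + c g).val • y →
        ((t ^ (i + c g).val)⁻¹ * g * t ^ i.val) • x = y ∧ (t ^ (i + c g).val)⁻¹ * g * t ^ i.val ∈ P₀ := by
      intro g i x y hxy
      constructor
      · rw [mul_smul, mul_smul, hxy, inv_smul_smul]
      · rw [hP₀, hcadd, hcadd, hcinv, hcT, hcT]
        ring
    have hiff : ∀ (I J : Set (ZMod p)) (g : P), g • ∑ i, W I i = ∑ i, W J i → ∀ i, i ∈ I ↔ i + c g ∈ J := by
      intro I J g hg i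
      have h5 := hmv I J g hg i
      change g • t ^ i.val • (if i ∈ I then a else b) = t ^ (i + c g).val • (if i + c g ∈ J then a else b) at h5
      obtain ⟨h6, h7⟩ := hred g i _ _ h5
      by_cases hi : i ∈ I <;> by_cases hj : i + c g ∈ J
      · simp [hi, hj]
      · rw [if_pos hi, if_neg hj] at h6
        exact absurd h6 (h3 _ h7)
      · rw [if_neg hi, if_pos hj] at h6
        exact absurd (inv_smul_eq_iff.2 h6.symm) (h3 _ (P₀.inv_mem h7))
      · simp [hi, hj]
    have hstab : ∀ (I : Set (ZMod p)) (g : P), g • ∑ i, W I i = ∑ i, W I i → c g = 0 → ∀ w : V, g • w = w := by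
      intro I g hg hcg w
      rw [← sum_e hsum w, Finset.smul_sum]
      refine Finset.sum_congr rfl fun i _ => ?_
      have h5 := hmv I I g hg i
      change g • t ^ i.val • (if i ∈ I then a else b) = t ^ (i + c g).val • (if i + c g ∈ I then a else b) at h5
      obtain ⟨h6, h7⟩ := hred g i _ _ h5
      have h8 : ∀ v, ((t ^ (i + c g).val)⁻¹ * g * t ^ i.val) • e 0 v = e 0 v := by
        rw [hcg, add_zero] at h6
        by_cases hi : i ∈ I
        · rw [if_pos hi] at h6
          refine h1 _ h7 ?_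
          rw [hcg, add_zero]
          exact h6
        · rw [if_neg hi] at h6
          refine h2 _ h7 ?_
          rw [hcg, add_zero]
          exact h6
      rw [hcg, add_zero] at h8
      -- `e i w = t^i e 0 (t^-i w)`
      have h9 : e i w = t ^ i.val • e 0 ((t ^ i.val)⁻¹ • w) := by
        rw [hmove, hcT, zero_add, smul_inv_smul]
      have h10 := h8 ((t ^ i.val)⁻¹ • w)
      rw [mul_smul, mul_smul, ← h9, inv_smul_eq_iff, ← h9] at h10
      exact h10
    have h01 : (0 : ZMod p) ≠ 1 := zero_ne_one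
    refine ⟨∑ i, W {0} i, ∑ i, W {0, 1} i, ?_, ?_, ?_⟩
    · intro g hg
      refine hstab _ g hg ?_
      have h5 := (hiff _ _ g hg 0).1 rfl
      rw [zero_add] at h5
      exact h5
    · intro g hg
      refine hstab _ g hg ?_
      have h5 := (hiff _ _ g hg 0).1 (Or.inl rfl)
      rw [zero_add] at h5
      rcases h5 with h5 | h5
      · exact h5
      · exfalso
        have h5' : c g = 1 := h5
        have h6 := (hiff _ _ g hg 1).1 (Or.inr rfl)
        rw [h5'] at h6
        rcases h6 with h6 | h6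
        · have h7 : (2 : ZMod p) = 0 := by
            have : (1 : ZMod p) + 1 = 0 := h6
            rw [← this]
            norm_num
          have h8 : ((2 : ℕ) : ZMod p) = 0 := by exact_mod_cast h7
          rw [ZMod.natCast_eq_zero_iff] at h8
          exact hp2 ((Nat.prime_dvd_prime_iff_eq hp.out Nat.prime_two).1 h8)
        · have h7 : (1 : ZMod p) + 1 = 1 := h6
          exact h01 (left_eq_add.1 h7.symm).symm
    · intro g hg
      have h5 : (0 : ZMod p) - c g ∈ ({0} : Set (ZMod p)) := (hiff _ _ g hg (0 - c g)).2 (by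
        rw [sub_add_cancel]
        exact Or.inl rfl)
      have h6 : (1 : ZMod p) - c g ∈ ({0} : Set (ZMod p)) := (hiff _ _ g hg (1 - c g)).2 (by
        rw [sub_add_cancel]
        exact Or.inr rfl)
      have h7 : (0 : ZMod p) - c g = 0 := h5
      have h8 : (1 : ZMod p) - c g = 0 := h6
      rw [zero_sub, neg_eq_zero] at h7
      rw [h7, sub_zero] at h8
      exact h01 h8.symm

/-- **Claim 2** -/
theorem cl2_main (hp2 : p ≠ 2) (hM : ∀ j k : ℕ, 1 + p ^ j = 2 ^ k → j = 0) (n : ℕ) : ∀ (P V : Type u) [Group P]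
    [Finite P] [AddCommGroup V] [Finite V] [DistribMulAction P V], Nat.card V ≤ n → IsPGroup p P →
    ¬ p ∣ Nat.card V → Cl2 P V := by
  induction n with
  | zero =>
    intro P V _ _ _ _ _ h
    have := Nat.card_pos (α := V)
    omega
  | succ n ih =>
    intro P V _ _ _ _ _ hn hP hV
    apply cl2_of_im
    refine cl2_step hp2 hM (isPGroup_im hP) hV faithful_im ?_
    intro P' V' _ _ _ _ _ h hP' hV'
    exact ih P' V' (by omega) hP' hV'

end Cl2

/-! ### the results -/

/-- **A strong form**: `p ν(C_P(v)) + 1 ≤ ν(P)` if `P ≠ 1`. -/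
theorem rat_strong {p : ℕ} (hp : p.Prime) (hp2 : p ≠ 2) (P V : Type u) [Group P] [Finite P] [AddCommGroup V] [Finite V]
    [DistribMulAction P V] (hP : IsPGroup p P) (hV : ¬ p ∣ Nat.card V)
    (hf : ∀ g : P, (∀ v : V, g • v = v) → g = 1) : Subsingleton P ∨
    ∃ v : V, p * (Nat.card (MulAction.stabilizer P v)).factorization p + 1 ≤ (Nat.card P).factorization p := by
  have hFact := Fact.mk hp
  rcases cl1_main hp2 _ P V le_rfl hP hV with h | ⟨v, hv⟩
  · left
    refine ⟨fun a b => ?_⟩
    rw [hf a (h a), hf b (h b)]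
  · right
    refine ⟨v, ?_⟩
    have hk : kr P V = ⊥ := by
      rw [eq_bot_iff]
      intro g hg
      exact Subgroup.mem_bot.2 (hf g hg)
    rw [hk, Subgroup.index_bot] at hv
    have h1 : (Nat.card P).factorization p = (Nat.card (MulAction.stabilizer P v)).factorization p +
        (MulAction.stabilizer P v).index.factorization p := by
      rw [← Subgroup.card_mul_index (MulAction.stabilizer P v),
        Nat.factorization_mul Nat.card_pos.ne' Subgroup.index_ne_zero_of_finite, Finsupp.add_apply]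
    obtain ⟨m, rfl⟩ : ∃ m, p = m + 1 := ⟨p - 1, by have := hp.pos; omega⟩
    rw [Nat.add_sub_cancel] at hv
    rw [h1] at hv ⊢
    generalize (Nat.card (MulAction.stabilizer P v)).factorization (m + 1) = x at *
    generalize (MulAction.stabilizer P v).index.factorization (m + 1) = y at *
    nlinarith

/-- **Two regular orbits** -/
theorem two_regular {p : ℕ} (hp : p.Prime) (hp2 : p ≠ 2) (hM : ∀ j k : ℕ, 1 + p ^ j = 2 ^ k → j = 0)
    (P V : Type u) [Group P] [Finite P] [AddCommGroup V] [Finite V] [Nontrivial V]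
    [DistribMulAction P V] (hP : IsPGroup p P) (hV : ¬ p ∣ Nat.card V)
    (hf : ∀ g : P, (∀ v : V, g • v = v) → g = 1) : ∃ v v' : V, (∀ g : P, g • v = v → g = 1) ∧
      (∀ g : P, g • v' = v' → g = 1) ∧ ∀ g : P, g • v ≠ v' := by
  have hFact := Fact.mk hp
  obtain ⟨v, v', h1, h2, h3⟩ := cl2_main hp2 hM _ P V le_rfl hP hV inferInstance
  exact ⟨v, v', fun g hg => hf g (h1 g hg), fun g hg => hf g (h2 g hg), h3⟩


theorem rat_three : Cfsg.Agent.H527.RC.Rat.{u} 3 1 3 := by
  intro P V _ _ _ _ _ hP hV hf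
  rcases rat_strong Nat.prime_three (by norm_num) P V hP hV hf with h | ⟨v, hv⟩
  · refine ⟨0, ?_⟩
    have h1 : Nat.card (MulAction.stabilizer P (0 : V)) = 1 := Nat.card_of_subsingleton 1
    rw [h1]
    simp
  · exact ⟨v, by omega⟩

theorem rat_ge {p : ℕ} (h7 : 7 ≤ p) (hp : p.Prime) : Cfsg.Agent.H527.RC.Rat.{u} p 1 7 := by
  intro P V _ _ _ _ _ hP hV hf
  rcases rat_strong hp (by omega) P V hP hV hf with h | ⟨v, hv⟩
  · refine ⟨0, ?_⟩
    have h1 : Nat.card (MulAction.stabilizer P (0 : V)) = 1 := Nat.card_of_subsingleton 1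
    rw [h1]
    simp
  · refine ⟨v, ?_⟩
    have := Nat.mul_le_mul_right ((Nat.card (MulAction.stabilizer P v)).factorization p) h7
    omega

theorem five_pow (j k : ℕ) (h : 1 + 5 ^ j = 2 ^ k) : j = 0 := by
  have h1 : (5 ^ j) % 4 = 1 := by
    rw [Nat.pow_mod]
    norm_num
  rcases k with _ | _ | k
  · have : 0 < 5 ^ j := pow_pos (by norm_num) j
    rw [pow_zero] at h
    omega
  · have h2 : 5 ^ j = 1 := by omega
    rcases j with _ | j
    · rfl
    · rw [pow_succ] at h2
      omega
  · exfalso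
    have h2 : 2 ^ (k + 1 + 1) = 4 * 2 ^ k := by ring
    omega

theorem rat_five : Cfsg.Agent.H527.RC.Rat.{u} 5 0 1 := by
  intro P V _ _ _ _ _ hP hV hf
  rcases subsingleton_or_nontrivial V with hs | hnt
  · have hsP : Subsingleton P := ⟨fun a b => by
      rw [hf a fun v => Subsingleton.elim _ _, hf b fun v => Subsingleton.elim _ _]⟩
    refine ⟨0, ?_⟩
    have h1 : Nat.card (MulAction.stabilizer P (0 : V)) = 1 := Nat.card_of_subsingleton 1
    rw [h1]
    simp
  · obtain ⟨v, -, h1, -, -⟩ := two_regular Nat.prime_five (by norm_num) five_pow P V hP hV hf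
    refine ⟨v, ?_⟩
    have h2 : MulAction.stabilizer P v = ⊥ := by
      rw [eq_bot_iff]
      intro g hg
      exact Subgroup.mem_bot.2 (h1 g hg)
    rw [h2, Subgroup.card_bot]
    simp

end Cfsg.Agent.H242.RC
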